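import Groth.Prelude.Def_ArSurf
import Groth.Prelude.Def_Pic
import Groth.Agent.VolLib.UnifTools

set_option autoImplicit false
set_option backward.isDefEq.respectTransparency false
universe u
open CategoryTheory CategoryTheory.Limits AlgebraicGeometry

namespace Groth.Agent.ArSurfPull

theorem inter_eq_zero {R : Type u} [CommRing R] [IsDomain R] [IsDiscreteValuationRing R]
    (X Y : Over (Spec (CommRingCat.of R))) (f : X ⟶ Y) (E : ArSurf.VertComp R X) (y : Y.left)
    (hE : Set.range ((E.ι ≫ f.left).base : E.curve.left → Y.left) = {y})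
    (M : Y.left.Modules) (hM : PicF.IsInvertible M) :
    ArSurf.inter R X ((Scheme.Modules.pullback f.left).obj M) E = 0 := by
  obtain ⟨V, hyV, ⟨e⟩⟩ := hM y
  have hr : Set.range (E.ι ≫ f.left).base ⊆ Set.range V.ι.base := by
    rw [Scheme.Opens.range_ι, hE]
    exact Set.singleton_subset_iff.2 hyV
  let g : E.curve.left ⟶ V.toScheme := IsOpenImmersion.lift V.ι (E.ι ≫ f.left) hr
  have hg : g ≫ V.ι = E.ι ≫ f.left := IsOpenImmersion.lift_fac _ _ hr
  let i1 := (Scheme.Modules.pullbackComp E.ι f.left).app M ≪≫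
    (Scheme.Modules.pullbackCongr hg.symm).app M ≪≫
    ((Scheme.Modules.pullbackComp g V.ι).app M).symm ≪≫
    (Scheme.Modules.pullback g).mapIso (((Scheme.Modules.restrictFunctorIsoPullback V.ι).app M).symm ≪≫ e) ≪≫
    (PicClLib.nonempty_pullback_structureModule g).some
  have h := VolLib.eulerCharLE_congr (k := IsLocalRing.ResidueField R) (Z := E.curve.left) i1 1
  change FGA.eulerCharLE (IsLocalRing.ResidueField R) E.curve.left _ 1 -
    FGA.eulerCharLE (IsLocalRing.ResidueField R) E.curve.left _ 1 = 0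
  exact sub_eq_zero.2 h

end Groth.Agent.ArSurfPull
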